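import Groth.Agent.CubicExtLib.Basic

/-!
# Ext¹ between the overorders of a quadratic order over `k[[q]]`
-/

set_option autoImplicit false
set_option backward.isDefEq.respectTransparency false
set_option linter.style.haveILetI false

universe u v

open CategoryTheory Abelian

namespace Groth.Agent.QuadOrderExtLib

/-- Over an algebraically closed field length equals dimension. -/
theorem length_eq_finrank {k : Type u} [Field k] [IsAlgClosed k] {A : Type u} [CommRing A] [Algebra k A]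
    (Q : Type v) [AddCommGroup Q] [Module A Q] [Module k Q] [IsScalarTower k A Q] [FiniteDimensional k Q] :
    Module.length A Q = (Module.finrank k Q : ℕ∞) := by
  classical
  induction hd : Module.finrank k Q using Nat.strong_induction_on generalizing Q with
  | _ d ih =>
    subst hd
    rcases subsingleton_or_nontrivial Q with h | h
    · rw [Module.length_eq_zero, Module.finrank_zero_of_subsingleton, Nat.cast_zero]
    have : IsArtinian A Q := isArtinian_of_tower k (inferInstance : IsArtinian k Q)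
    obtain ⟨L, hL, -⟩ := (eq_bot_or_exists_atom_le (⊤ : Submodule A Q)).resolve_left top_ne_bot
    have hs : IsSimpleModule A L := isSimpleModule_iff_isAtom.2 hL
    -- the simple submodule is one-dimensional
    have h1 : Module.finrank k L = 1 := by
      obtain ⟨x, hxL, hx0⟩ := Submodule.exists_mem_ne_zero_of_ne_bot hL.1
      let x' : L := ⟨x, hxL⟩
      have hx' : x' ≠ 0 := fun e => hx0 (congrArg Subtype.val e)
      have hsurj : Function.Surjective (LinearMap.toSpanSingleton A L x') :=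
        IsSimpleModule.toSpanSingleton_surjective A hx'
      let I : Ideal A := LinearMap.ker (LinearMap.toSpanSingleton A L x')
      have : I.IsMaximal := IsSimpleModule.ker_toSpanSingleton_isMaximal A hx'
      let e : (A ⧸ I) ≃ₗ[A] L := LinearMap.quotKerEquivOfSurjective _ hsurj
      have : FiniteDimensional k L :=
        FiniteDimensional.of_injective (L.subtype.restrictScalars k) L.injective_subtype
      have : FiniteDimensional k (A ⧸ I) := Module.Finite.equiv (e.restrictScalars k).symm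
      letI := Ideal.Quotient.field I
      have hbij := IsAlgClosed.algebraMap_bijective_of_isIntegral (k := k) (K := A ⧸ I)
      rw [← (e.restrictScalars k).finrank_eq,
        ← (AlgEquiv.ofBijective (Algebra.ofId k (A ⧸ I)) hbij).toLinearEquiv.finrank_eq, Module.finrank_self]
    have hsum : Module.finrank k L + Module.finrank k (Q ⧸ L) = Module.finrank k Q := by
      rw [add_comm, ← (Submodule.Quotient.restrictScalarsEquiv k L).finrank_eq,
        show Module.finrank k L = Module.finrank k (L.restrictScalars k) from rfl,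
        Submodule.finrank_quotient_add_finrank]
    have : FiniteDimensional k (Q ⧸ L) :=
      Module.Finite.equiv (Submodule.Quotient.restrictScalarsEquiv k L)
    rw [Module.length_eq_add_of_exact L.subtype L.mkQ L.injective_subtype L.mkQ_surjective
      (LinearMap.exact_subtype_mkQ L), Module.length_eq_one A L,
      ih _ (by omega) (Q ⧸ L) rfl]
    exact_mod_cast congrArg (fun t : ℕ => (t : ℕ∞)) (show 1 + Module.finrank k (Q ⧸ L) = Module.finrank k Q by omega)

open PowerSeries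

variable {k : Type u} [Field k] {B : Type u} [CommRing B] [Algebra k B]

/-- A quadratic algebra over `k[[q]]`: coordinates with respect to a basis `1, w`. -/
structure Quad (k : Type u) [Field k] (B : Type u) [CommRing B] [Algebra k B] where
  ι : PowerSeries k →ₐ[k] B
  w : B
  α : PowerSeries k
  β : PowerSeries k
  sq : w * w = ι α + ι β * w
  bij : Function.Bijective fun p : PowerSeries k × PowerSeries k => ι p.1 + ι p.2 * w

namespace Quad

variable (Q : Quad k B)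

/-- The `w`-coordinate is divisible by `q ^ e`. -/
def Mem (e : ℕ) (x : B) : Prop := ∃ a b, x = Q.ι a + Q.ι (X ^ e * b) * Q.w

theorem ext_iff {a b a' b' : PowerSeries k} :
    Q.ι a + Q.ι b * Q.w = Q.ι a' + Q.ι b' * Q.w ↔ a = a' ∧ b = b' :=
  ⟨fun h => Prod.mk.injEq _ _ _ _ ▸ Q.bij.1 (a₁ := (a, b)) (a₂ := (a', b')) h,
    by rintro ⟨rfl, rfl⟩; rfl⟩

theorem mul_eq (a b a' b' : PowerSeries k) :
    (Q.ι a + Q.ι b * Q.w) * (Q.ι a' + Q.ι b' * Q.w) =
      Q.ι (a * a' + b * b' * Q.α) + Q.ι (a * b' + a' * b + b * b' * Q.β) * Q.w := by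
  simp only [map_add, map_mul]
  linear_combination (Q.ι b * Q.ι b') * Q.sq

theorem mem_mono {e e' : ℕ} (h : e ≤ e') {x : B} (hx : Q.Mem e' x) : Q.Mem e x := by
  obtain ⟨a, b, rfl⟩ := hx
  exact ⟨a, X ^ (e' - e) * b, by rw [← mul_assoc, ← pow_add, Nat.add_sub_cancel' h]⟩

theorem mem_add {e : ℕ} {x y : B} (hx : Q.Mem e x) (hy : Q.Mem e y) : Q.Mem e (x + y) := by
  obtain ⟨a, b, rfl⟩ := hx
  obtain ⟨a', b', rfl⟩ := hy
  exact ⟨a + a', b + b', by simp only [map_add, map_mul]; ring⟩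

theorem mem_neg {e : ℕ} {x : B} (hx : Q.Mem e x) : Q.Mem e (-x) := by
  obtain ⟨a, b, rfl⟩ := hx
  exact ⟨-a, -b, by simp only [map_neg, map_mul]; ring⟩

theorem mem_mul {e : ℕ} {x y : B} (hx : Q.Mem e x) (hy : Q.Mem e y) : Q.Mem e (x * y) := by
  obtain ⟨a, b, rfl⟩ := hx
  obtain ⟨a', b', rfl⟩ := hy
  refine ⟨a * a' + (X ^ e * b) * (X ^ e * b') * Q.α,
    a * b' + a' * b + b * (X ^ e * b') * Q.β, ?_⟩
  rw [Q.mul_eq]
  ring_nf

theorem mem_ι {e : ℕ} (a : PowerSeries k) : Q.Mem e (Q.ι a) := ⟨a, 0, by simp⟩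

theorem mem_ι_mul_w {e : ℕ} (b : PowerSeries k) : Q.Mem e (Q.ι (X ^ e * b) * Q.w) := ⟨0, b, by simp⟩

theorem reg {e : ℕ} {x y : B} (h : Q.ι (X ^ e) * x = Q.ι (X ^ e) * y) : x = y := by
  obtain ⟨⟨a, b⟩, rfl⟩ := Q.bij.2 x
  obtain ⟨⟨a', b'⟩, rfl⟩ := Q.bij.2 y
  simp only [mul_add, ← mul_assoc, ← map_mul, Q.ext_iff] at h
  obtain ⟨h1, h2⟩ := h
  rw [mul_left_cancel₀ (pow_ne_zero e X_ne_zero) h1, mul_left_cancel₀ (pow_ne_zero e X_ne_zero) h2]

/-- The coordinates. -/
noncomputable def coord : B →ₗ[k] PowerSeries k × PowerSeries k :=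
  (LinearEquiv.ofBijective
    ((Q.ι.toLinearMap).coprod ((LinearMap.mulRight k Q.w).comp Q.ι.toLinearMap))
    Q.bij).symm.toLinearMap

theorem coord_apply (a b : PowerSeries k) : Q.coord (Q.ι a + Q.ι b * Q.w) = (a, b) := by
  rw [coord, LinearEquiv.coe_toLinearMap, LinearEquiv.symm_apply_eq]
  rfl

set_option synthInstance.maxHeartbeats 400000 in
set_option maxHeartbeats 2000000 in
/-- The main computation. -/
theorem length_ext [IsAlgClosed k] (Q : Quad k B) (δ : ℕ) (A : Subalgebra k B) (hA : ∀ x, x ∈ A ↔ Q.Mem δ x)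
    (i j : ℕ) (hi : i ≤ δ) (hj : j ≤ δ)
    {M N : Type u} [AddCommGroup M] [Module A M] [AddCommGroup N] [Module A N] [Module k N]
    [IsScalarTower k A N]
    (ιM : M →ₗ[A] B) (hιM : Function.Injective ιM) (hM : ∀ x, x ∈ LinearMap.range ιM ↔ Q.Mem (δ - i) x)
    (ιN : N →ₗ[A] B) (hιN : Function.Injective ιN) (hN : ∀ x, x ∈ LinearMap.range ιN ↔ Q.Mem (δ - j) x) :
    Module.length A (Ext.{u} (ModuleCat.of A M) (ModuleCat.of A N) 1) = ((2 * min i j : ℕ) : ℕ∞) := by
  classical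
  have hsm : ∀ (c : A) (z : B), c • z = (c : B) * z := fun _ _ => rfl
  let s : B := Q.ι (X ^ (δ - i)) * Q.w
  have hs : Q.Mem (δ - i) s := by simpa [s] using Q.mem_ι_mul_w (e := δ - i) 1
  let p₀ : A × A →ₗ[A] B := (LinearMap.toSpanSingleton A B 1).coprod (LinearMap.toSpanSingleton A B s)
  have hp₀ : ∀ f, p₀ f = (f.1 : B) + (f.2 : B) * s := fun f => by
    simp [p₀, hsm]
  have hAle : ∀ {x : B} {e : ℕ}, x ∈ A → e ≤ δ → Q.Mem e x := fun hx he => Q.mem_mono he ((hA _).1 hx)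
  have hrange : ∀ f, p₀ f ∈ LinearMap.range ιM := fun f => by
    rw [hM, hp₀]
    exact Q.mem_add (hAle f.1.2 (by omega)) (Q.mem_mul (hAle f.2.2 (by omega)) hs)
  let EM := LinearEquiv.ofInjective ιM hιM
  let p : A × A →ₗ[A] M := EM.symm.toLinearMap ∘ₗ p₀.codRestrict (LinearMap.range ιM) hrange
  have hpι : ∀ f, ιM (p f) = p₀ f := fun f => congrArg Subtype.val (EM.apply_symm_apply _)
  have hpsurj : Function.Surjective p := fun m => by
    obtain ⟨a, b, hab⟩ := (hM _).1 (LinearMap.mem_range_self ιM m)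
    refine ⟨(⟨Q.ι a, (hA _).2 (Q.mem_ι a)⟩, ⟨Q.ι b, (hA _).2 (Q.mem_ι b)⟩), hιM ?_⟩
    rw [hpι, hp₀, hab]
    simp only [s, map_mul]
    ring
  let K := LinearMap.ker p
  have hK : ∀ f, f ∈ K ↔ p₀ f = 0 := fun f => by
    rw [LinearMap.mem_ker, ← hpι, map_eq_zero_iff ιM hιM]
  -- the kernel is `q ^ i` times the module
  have hAτ : ∀ {x : B}, Q.Mem (δ - i) x → Q.ι (X ^ i) * x ∈ A ∧ Q.ι (X ^ i) * x * s ∈ A := by
    rintro x ⟨a, b, rfl⟩
    constructor
    · refine (hA _).2 ⟨X ^ i * a, b, ?_⟩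
      rw [mul_add, ← map_mul, ← mul_assoc, ← map_mul, ← mul_assoc, ← pow_add, Nat.add_sub_cancel' hi]
    · have h := Q.mul_eq (X ^ i * a) (X ^ δ * b) 0 (X ^ (δ - i))
      refine (hA _).2 ⟨X ^ δ * b * X ^ (δ - i) * Q.α, a + X ^ (δ - i) * b * Q.β, ?_⟩
      simp only [s]
      rw [map_zero, zero_add] at h
      rw [show Q.ι (X ^ i) * (Q.ι a + Q.ι (X ^ (δ - i) * b) * Q.w) = Q.ι (X ^ i * a) + Q.ι (X ^ δ * b) * Q.w by
        rw [mul_add, ← map_mul, ← mul_assoc, ← map_mul, ← mul_assoc, ← pow_add, Nat.add_sub_cancel' hi], h]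
      have e : X ^ i * a * X ^ (δ - i) = (X : PowerSeries k) ^ δ * a := by
        rw [mul_right_comm, ← pow_add, Nat.add_sub_cancel' hi]
      congr 2
      · ring
      · rw [zero_mul, add_zero, e]; ring
  let u : ∀ x : B, Q.Mem (δ - i) x → K := fun x hx =>
    ⟨(⟨-(Q.ι (X ^ i) * x * s), A.neg_mem (hAτ hx).2⟩, ⟨Q.ι (X ^ i) * x, (hAτ hx).1⟩), (hK _).2 (by
      rw [hp₀]; exact neg_add_cancel _)⟩
  have h1mem : Q.Mem (δ - i) 1 := by simpa using Q.mem_ι (e := δ - i) 1
  have hdecomp : ∀ f : K, ∃ x, ∃ hx : Q.Mem (δ - i) x, f = u x hx := by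
    intro f
    obtain ⟨a, b, hab⟩ := (hA _).1 f.1.2.2
    obtain ⟨a', b', hab'⟩ := (hA _).1 f.1.1.2
    have h0 := (hK _).1 f.2
    rw [hp₀, hab] at h0
    have h := Q.mul_eq a (X ^ δ * b) 0 (X ^ (δ - i))
    rw [map_zero, zero_add, show Q.ι (X ^ (δ - i)) * Q.w = s from rfl] at h
    rw [h, hab'] at h0
    obtain ⟨-, h2⟩ : a' + (a * 0 + X ^ δ * b * X ^ (δ - i) * Q.α) = 0 ∧
        X ^ δ * b' + (a * X ^ (δ - i) + 0 * (X ^ δ * b) + X ^ δ * b * X ^ (δ - i) * Q.β) = 0 := by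
      refine (Q.ext_iff (a' := 0) (b' := 0)).1 ?_
      simp only [map_add, map_zero, zero_mul, add_zero] at h0 ⊢
      linear_combination h0
    obtain ⟨c, hc⟩ : (X : PowerSeries k) ^ i ∣ a := by
      refine ⟨-(b' + b * X ^ (δ - i) * Q.β), mul_left_cancel₀ (pow_ne_zero (δ - i) X_ne_zero) ?_⟩
      rw [← mul_assoc, ← pow_add, Nat.sub_add_cancel hi]
      linear_combination h2
    refine ⟨Q.ι c + Q.ι (X ^ (δ - i) * b) * Q.w, ⟨c, b, rfl⟩, ?_⟩
    have e2 : (f.1.2 : B) = Q.ι (X ^ i) * (Q.ι c + Q.ι (X ^ (δ - i) * b) * Q.w) := by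
      rw [hab, hc, mul_add, ← map_mul, ← mul_assoc, ← map_mul, ← mul_assoc, ← pow_add,
        Nat.add_sub_cancel' hi]
    refine Subtype.ext (Prod.ext (Subtype.ext ?_) (Subtype.ext e2))
    have h0' := (hK _).1 f.2
    rw [hp₀, e2] at h0'
    exact eq_neg_of_add_eq_zero_left h0'
  -- values
  let val : (K →ₗ[A] N) →ₗ[k] B :=
    { toFun := fun φ => ιN (φ (u 1 h1mem))
      map_add' := fun φ ψ => by simp
      map_smul' := fun c φ => by
        simp only [LinearMap.smul_apply, RingHom.id_apply]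
        rw [← algebraMap_smul A c (φ (u 1 h1mem)), map_smul, algebraMap_smul] }
  have hlin : ∀ (φ : K →ₗ[A] N) x hx, ιN (φ (u x hx)) = x * val φ := by
    intro φ x hx
    let cq : A := ⟨Q.ι (X ^ i), (hA _).2 (Q.mem_ι _)⟩
    let cx : A := ⟨Q.ι (X ^ i) * x, (hAτ hx).1⟩
    have h1 : cq • u x hx = cx • u 1 h1mem := by
      refine Subtype.ext (Prod.ext (Subtype.ext ?_) (Subtype.ext ?_))
      · simp [u, cq, cx]; ring
      · simp [u, cq, cx]; ring
    have h2 := congrArg (fun z => ιN (φ z)) h1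
    simp only [map_smul, hsm, cq, cx, mul_assoc] at h2
    exact Q.reg h2
  have hadm : ∀ φ x, Q.Mem (δ - i) x → Q.Mem (δ - j) (x * val φ) := fun φ x hx =>
    (hN _).1 ⟨_, hlin φ x hx⟩
  -- the coordinates read off
  let m := min i j
  let d := i - j
  let Φ : (K →ₗ[A] N) →ₗ[k] (Fin m ⊕ Fin m → k) :=
    (LinearMap.pi (Sum.elim (fun l : Fin m => (coeff (d + l.val)).comp (LinearMap.fst k _ _))
      (fun l : Fin m => (coeff (δ - j + l.val)).comp (LinearMap.snd k _ _)))).comp (Q.coord.comp val)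
  -- shape of an admissible value
  have hshape : ∀ φ, ∃ a b, val φ = Q.ι (X ^ d * a) + Q.ι (X ^ (δ - j) * b) * Q.w := by
    intro φ
    obtain ⟨a, b, hab⟩ := hadm φ 1 h1mem
    rw [one_mul] at hab
    obtain ⟨a', b', hab'⟩ := hadm φ s hs
    have h := Q.mul_eq 0 (X ^ (δ - i)) a (X ^ (δ - j) * b)
    rw [map_zero, zero_add, show Q.ι (X ^ (δ - i)) * Q.w = s from rfl, ← hab, hab'] at h
    obtain ⟨-, h2⟩ := Q.ext_iff.1 h
    obtain ⟨c, hc⟩ : (X : PowerSeries k) ^ d ∣ a := by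
      rcases Nat.eq_zero_or_pos d with hd | hd
      · rw [hd, pow_zero]; exact one_dvd _
      refine ⟨b' - X ^ (δ - i) * b * Q.β, mul_left_cancel₀ (pow_ne_zero (δ - i) X_ne_zero) ?_⟩
      rw [← mul_assoc, ← pow_add, show δ - i + d = δ - j by omega]
      linear_combination (-1 : PowerSeries k) * h2
    exact ⟨c, b, by rw [hab, hc]⟩
  have hΦ0 : ∀ φ a b, val φ = Q.ι (X ^ d * a) + Q.ι (X ^ (δ - j) * b) * Q.w →
      (Φ φ = 0 ↔ (X : PowerSeries k) ^ m ∣ a ∧ (X : PowerSeries k) ^ m ∣ b) := by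
    intro φ a b h
    simp only [Φ, LinearMap.comp_apply, h, Q.coord_apply, funext_iff, Sum.forall, LinearMap.pi_apply,
      Sum.elim_inl, Sum.elim_inr, LinearMap.fst_apply, LinearMap.snd_apply, Pi.zero_apply,
      PowerSeries.X_pow_dvd_iff]
    simp only [PowerSeries.coeff_X_pow_mul', if_pos (Nat.le_add_right _ _), Nat.add_sub_cancel_left]
    exact ⟨fun h => ⟨fun l hl => h.1 ⟨l, hl⟩, fun l hl => h.2 ⟨l, hl⟩⟩,
      fun h => ⟨fun l => h.1 l.val l.isLt, fun l => h.2 l.val l.isLt⟩⟩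
  have hΦsurj : Function.Surjective Φ := by
    intro v
    let a : PowerSeries k := PowerSeries.mk fun l => if h : l < m then v (Sum.inl ⟨l, h⟩) else 0
    let b : PowerSeries k := PowerSeries.mk fun l => if h : l < m then v (Sum.inr ⟨l, h⟩) else 0
    set x := Q.ι (X ^ d * a) + Q.ι (X ^ (δ - j) * b) * Q.w with hx
    have hxm : ∀ y, Q.Mem (δ - i) y → Q.Mem (δ - j) (y * x) := by
      rintro y ⟨c, e, rfl⟩
      rw [hx, Q.mul_eq]
      obtain ⟨z, hz⟩ : (X : PowerSeries k) ^ (δ - j) ∣ X ^ d * a * (X ^ (δ - i) * e) := by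
        refine Dvd.intro (X ^ (j - i) * a * e) ?_
        rw [show X ^ d * a * (X ^ (δ - i) * e) = X ^ (d + (δ - i)) * a * e by rw [pow_add]; ring,
          show d + (δ - i) = (δ - j) + (j - i) by omega, pow_add]
        ring
      refine ⟨_, c * b + z + X ^ (δ - i) * e * b * Q.β, congrArg₂ (· + ·) rfl (congrArg (fun t => Q.ι t * Q.w) ?_)⟩
      rw [hz]; ring
    let q : A × A → B := fun f =>
      if h : ∃ y, Q.Mem (δ - i) y ∧ (f.2 : B) = Q.ι (X ^ i) * y then h.choose * x else 0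
    have hq : ∀ y hy, q (u y hy).1 = y * x := fun y hy => by
      have h : ∃ y', Q.Mem (δ - i) y' ∧ ((u y hy).1.2 : B) = Q.ι (X ^ i) * y' := ⟨y, hy, rfl⟩
      simp only [q, dif_pos h]
      exact congrArg (· * x) (Q.reg h.choose_spec.2).symm
    let φ₀ : K →ₗ[A] B :=
      { toFun := fun f => q f.1
        map_add' := fun f g => by
          obtain ⟨y, hy, rfl⟩ := hdecomp f
          obtain ⟨z, hz, rfl⟩ := hdecomp g
          rw [hq y hy, hq z hz, ← add_mul, ← hq (y + z) (Q.mem_add hy hz)]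
          refine congrArg q (Prod.ext (Subtype.ext ?_) (Subtype.ext ?_))
          · simp [u]; ring
          · simp [u]; ring
        map_smul' := fun c f => by
          obtain ⟨y, hy, rfl⟩ := hdecomp f
          rw [RingHom.id_apply, hq y hy, hsm, ← mul_assoc, ← hq ((c : B) * y) (Q.mem_mul (hAle c.2 (by omega)) hy)]
          refine congrArg q (Prod.ext (Subtype.ext ?_) (Subtype.ext ?_))
          · simp [u]; ring
          · simp [u]; ring }
    have hφ₀ : ∀ f, φ₀ f ∈ LinearMap.range ιN := fun f => by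
      obtain ⟨y, hy, rfl⟩ := hdecomp f
      rw [hN]
      show Q.Mem (δ - j) (q (u y hy).1)
      rw [hq y hy]
      exact hxm y hy
    let EN := LinearEquiv.ofInjective ιN hιN
    let φ : K →ₗ[A] N := EN.symm.toLinearMap ∘ₗ φ₀.codRestrict _ hφ₀
    refine ⟨φ, ?_⟩
    have hv : val φ = x := by
      show ιN (EN.symm ⟨φ₀ (u 1 h1mem), hφ₀ _⟩) = x
      rw [show ιN (EN.symm ⟨φ₀ (u 1 h1mem), hφ₀ _⟩) = φ₀ (u 1 h1mem) from
        congrArg Subtype.val (EN.apply_symm_apply _)]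
      show q (u 1 h1mem).1 = x
      rw [hq 1 h1mem, one_mul]
    funext l
    simp only [Φ, LinearMap.comp_apply, hv, hx, Q.coord_apply, LinearMap.pi_apply]
    rcases l with l | l
    · simp [a, PowerSeries.coeff_X_pow_mul']
    · simp [b, PowerSeries.coeff_X_pow_mul']
  -- the image of restriction
  let R : (A × A →ₗ[A] N) →ₗ[A] (K →ₗ[A] N) := LinearMap.lcomp A N K.subtype
  have hker : LinearMap.ker Φ = (LinearMap.range R).restrictScalars k := by
    ext φ
    simp only [LinearMap.mem_ker, Submodule.restrictScalars_mem, LinearMap.mem_range]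
    obtain ⟨a, b, hab⟩ := hshape φ
    rw [hΦ0 φ a b hab]
    have hval : ∀ ψ : A × A →ₗ[A] N, val (R ψ) = Q.ι (X ^ i) * (ιN (ψ (0, 1)) - s * ιN (ψ (1, 0))) := by
      intro ψ
      have h1 : (u 1 h1mem).1 = (⟨-(Q.ι (X ^ i) * 1 * s), A.neg_mem (hAτ h1mem).2⟩ : A) • ((1, 0) : A × A)
          + (⟨Q.ι (X ^ i) * 1, (hAτ h1mem).1⟩ : A) • ((0, 1) : A × A) := by
        refine Prod.ext ?_ ?_ <;> simp [u]
      show ιN (ψ (u 1 h1mem).1) = _
      rw [h1, map_add, map_smul, map_smul, map_add, map_smul, map_smul, hsm, hsm]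
      ring
    constructor
    · rintro ⟨⟨a₁, rfl⟩, b₁, rfl⟩
      -- write the value as `q ^ i (r₁ - s r₀)`
      have key : ∃ r₁ r₀, Q.Mem (δ - j) r₁ ∧ Q.Mem (δ - j) r₀ ∧ val φ = Q.ι (X ^ i) * (r₁ - s * r₀) := by
        rcases le_total i j with hij | hij
        · refine ⟨Q.ι a₁ + Q.ι (X ^ (δ - j) * b₁) * Q.w, 0, ⟨_, _, rfl⟩, by simpa using Q.mem_ι (e := δ - j) 0, ?_⟩
          rw [hab]
          simp only [d, m, Nat.sub_eq_zero_of_le hij, min_eq_left hij, pow_zero, one_mul, map_mul, mul_zero, sub_zero]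
          ring
        · refine ⟨Q.ι a₁, -Q.ι b₁, Q.mem_ι _, Q.mem_neg (Q.mem_ι _), ?_⟩
          rw [hab]
          simp only [s, d, m, min_eq_right hij, map_mul, map_pow, mul_neg, sub_neg_eq_add, mul_add,
            ← mul_assoc, ← pow_add, Nat.sub_add_cancel hij]
          rw [show δ - j + j = δ by omega, show i + (δ - i) = δ by omega]
          ring
      obtain ⟨r₁, r₀, hr₁, hr₀, hv⟩ := key
      obtain ⟨y₁, rfl⟩ := (hN _).2 hr₁
      obtain ⟨y₀, rfl⟩ := (hN _).2 hr₀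
      refine ⟨(LinearMap.toSpanSingleton A N y₀).coprod (LinearMap.toSpanSingleton A N y₁), ?_⟩
      refine LinearMap.ext fun f => hιN ?_
      obtain ⟨y, hy, rfl⟩ := hdecomp f
      rw [hlin _ y hy, hlin _ y hy]
      congr 1
      rw [hval, hv]
      simp
    · rintro ⟨ψ, rfl⟩
      obtain ⟨c₁, e₁, h1⟩ := (hN _).1 (LinearMap.mem_range_self ιN (ψ (0, 1)))
      obtain ⟨c₀, e₀, h0⟩ := (hN _).1 (LinearMap.mem_range_self ιN (ψ (1, 0)))
      have h2 := hab
      rw [hval, h1, h0] at h2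
      have h3 := Q.mul_eq 0 (X ^ (δ - i)) c₀ (X ^ (δ - j) * e₀)
      rw [map_zero, zero_add, show Q.ι (X ^ (δ - i)) * Q.w = s from rfl] at h3
      rw [h3] at h2
      obtain ⟨ha, hb⟩ : X ^ i * (c₁ - (0 * c₀ + X ^ (δ - i) * (X ^ (δ - j) * e₀) * Q.α)) = X ^ d * a ∧
          X ^ i * (X ^ (δ - j) * e₁ - (0 * (X ^ (δ - j) * e₀) + c₀ * X ^ (δ - i)
            + X ^ (δ - i) * (X ^ (δ - j) * e₀) * Q.β)) = X ^ (δ - j) * b := by
        refine Q.ext_iff.1 ?_
        rw [← h2]
        simp only [map_add, map_mul, map_sub, map_zero]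
        ring
      have hXne : ∀ e : ℕ, (X : PowerSeries k) ^ e ≠ 0 := fun e => pow_ne_zero e X_ne_zero
      have hdm : d + m = i := by omega
      constructor
      · refine Dvd.intro (c₁ - (0 * c₀ + X ^ (δ - i) * (X ^ (δ - j) * e₀) * Q.α)) (mul_left_cancel₀ (hXne d) ?_)
        rw [← mul_assoc, ← pow_add, hdm, ha]
      · refine Dvd.intro (X ^ (i - m) * e₁ - c₀ * X ^ (j - m) - X ^ (i - m) * X ^ (δ - i) * e₀ * Q.β)
          (mul_left_cancel₀ (hXne (δ - j)) ?_)
        rw [← hb]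
        have e1 : (X : PowerSeries k) ^ (δ - j) * X ^ m * X ^ (i - m) = X ^ i * X ^ (δ - j) := by
          rw [← pow_add, ← pow_add, ← pow_add]; congr 1; omega
        have e2 : (X : PowerSeries k) ^ (δ - j) * X ^ m * X ^ (j - m) = X ^ i * X ^ (δ - i) := by
          rw [← pow_add, ← pow_add, ← pow_add]; congr 1; omega
        linear_combination (e₁ - X ^ (δ - i) * e₀ * Q.β) * e1 - c₀ * e2
  have hip : Function.Exact K.subtype p := fun f =>
    ⟨fun h => ⟨⟨f, h⟩, rfl⟩, by rintro ⟨z, rfl⟩; exact z.2⟩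
  rw [CubicExtLib.length_ext_one (A := A) (K := K) (N := N) K.subtype p Subtype.val_injective hpsurj hip
    (LinearMap.range R).mkQ (Submodule.mkQ_surjective _) (fun φ => by
      rw [Submodule.mkQ_apply, Submodule.Quotient.mk_eq_zero, LinearMap.mem_range]
      exact ⟨fun ⟨ψ, h⟩ => ⟨ψ, h.symm⟩, fun ⟨ψ, h⟩ => ⟨ψ, h.symm⟩⟩)]
  let E : ((K →ₗ[A] N) ⧸ LinearMap.range R) ≃ₗ[k] (Fin m ⊕ Fin m → k) :=
    (Submodule.Quotient.restrictScalarsEquiv k (LinearMap.range R)).symm.trans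
      ((Submodule.quotEquivOfEq _ _ hker.symm).trans (Φ.quotKerEquivOfSurjective hΦsurj))
  haveI : FiniteDimensional k ((K →ₗ[A] N) ⧸ LinearMap.range R) := Module.Finite.equiv E.symm
  rw [length_eq_finrank (k := k), E.finrank_eq, Module.finrank_fintype_fun_eq_card, Fintype.card_sum,
    Fintype.card_fin, two_mul]

end Quad

end Groth.Agent.QuadOrderExtLib
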