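import Groth.Agent.QuadOrderExtLib.Basic

/-!
# The rings of the singularities `A_n`
-/

set_option autoImplicit false
set_option backward.isDefEq.respectTransparency false
set_option linter.style.haveILetI false

universe u

open CategoryTheory Abelian PowerSeries

namespace Groth.Agent.QuadOrderExtLib

variable {k : Type u} [Field k]

theorem span_pair_eq {B : Type u} [CommRing B] [Algebra k B] (Q : Quad k B) (δ : ℕ)
    (A : Subalgebra k B) (hA : ∀ x, x ∈ A ↔ Q.Mem δ x) {e : ℕ} (he : e ≤ δ) (x : B) :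
    x ∈ Submodule.span A ({1, Q.ι (X ^ e) * Q.w} : Set B) ↔ Q.Mem e x := by
  rw [Submodule.mem_span_pair]
  constructor
  · rintro ⟨c, d, rfl⟩
    show Q.Mem e ((c : B) * 1 + (d : B) * (Q.ι (X ^ e) * Q.w))
    refine Q.mem_add ?_ (Q.mem_mul (Q.mem_mono he ((hA _).1 d.2)) ?_)
    · rw [mul_one]; exact Q.mem_mono he ((hA _).1 c.2)
    · simpa using Q.mem_ι_mul_w (e := e) 1
  · rintro ⟨a, b, rfl⟩
    refine ⟨⟨Q.ι a, (hA _).2 (Q.mem_ι a)⟩, ⟨Q.ι b, (hA _).2 (Q.mem_ι b)⟩, ?_⟩
    show Q.ι a * 1 + Q.ι b * (Q.ι (X ^ e) * Q.w) = _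
    rw [map_mul]; ring

/-- One branch: `k[[t]]` over `k[[t²]]`. -/
noncomputable def oneBranch (k : Type u) [Field k] : Quad k (PowerSeries k) where
  ι := PowerSeries.expand 2 two_ne_zero
  w := X
  α := X
  β := 0
  sq := by rw [map_zero, zero_mul, add_zero, PowerSeries.expand_X, sq]
  bij := by
    refine ⟨fun p q h => ?_, fun f => ⟨(PowerSeries.mk fun n => coeff (2 * n) f,
      PowerSeries.mk fun n => coeff (2 * n + 1) f), ?_⟩⟩
    · have h1 : ∀ n, coeff n (expand 2 two_ne_zero p.1 + expand 2 two_ne_zero p.2 * X) =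
          coeff n (expand 2 two_ne_zero q.1 + expand 2 two_ne_zero q.2 * X) := fun n => congrArg (coeff n) h
      refine Prod.ext (PowerSeries.ext fun n => ?_) (PowerSeries.ext fun n => ?_)
      · have := h1 (2 * n)
        rcases n with - | n
        · simpa [coeff_zero_mul_X] using this
        · have e : 2 * (n + 1) = (2 * n + 1) + 1 := by ring
          have h2 : ∀ r : PowerSeries k, coeff (2 * (n + 1)) (expand 2 two_ne_zero r * X) = 0 := fun r => by
            rw [e, coeff_succ_mul_X, coeff_expand_of_not_dvd _ _ _ (by omega)]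
          rw [map_add, map_add, coeff_expand_mul, coeff_expand_mul, h2, h2, add_zero, add_zero] at this
          exact this
      · have := h1 (2 * n + 1)
        rw [map_add, map_add, coeff_succ_mul_X, coeff_succ_mul_X, coeff_expand_mul, coeff_expand_mul,
          coeff_expand_of_not_dvd _ _ _ (by omega), coeff_expand_of_not_dvd _ _ _ (by omega),
          zero_add, zero_add] at this
        exact this
    · refine PowerSeries.ext fun n => ?_
      simp only [map_add]
      rcases Nat.even_or_odd' n with ⟨m, rfl | rfl⟩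
      · rcases m with - | m
        · simp [coeff_zero_mul_X]
        · have e : 2 * (m + 1) = (2 * m + 1) + 1 := by ring
          rw [coeff_expand_mul, e, coeff_succ_mul_X, coeff_expand_of_not_dvd _ _ _ (by omega),
            add_zero, coeff_mk, e]
      · rw [coeff_expand_of_not_dvd _ _ _ (by omega), coeff_succ_mul_X, coeff_expand_mul, zero_add,
          coeff_mk]

theorem oneBranch_mem (e : ℕ) (f : PowerSeries k) :
    (oneBranch k).Mem e f ↔ ∀ m < e, coeff (2 * m + 1) f = 0 := by
  obtain ⟨⟨a, b⟩, rfl⟩ := (oneBranch k).bij.2 f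
  have key : ∀ (a b : PowerSeries k) m,
      coeff (2 * m + 1) ((oneBranch k).ι a + (oneBranch k).ι b * (oneBranch k).w) = coeff m b := by
    intro a b m
    show coeff (2 * m + 1) (expand 2 two_ne_zero a + expand 2 two_ne_zero b * X) = _
    rw [map_add, coeff_expand_of_not_dvd _ _ _ (by omega), coeff_succ_mul_X, coeff_expand_mul, zero_add]
  simp only [key]
  rw [← PowerSeries.X_pow_dvd_iff]
  constructor
  · rintro ⟨a', b', h⟩
    exact ⟨b', ((oneBranch k).ext_iff.1 h).2⟩
  · rintro ⟨b', rfl⟩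
    exact ⟨a, b', rfl⟩

theorem mem_closure_two_iff (δ n : ℕ) :
    n ∈ AddSubmonoid.closure ({2, 2 * δ + 1} : Set ℕ) ↔ Even n ∨ 2 * δ + 1 ≤ n := by
  rw [AddSubmonoid.mem_closure_pair]
  constructor
  · rintro ⟨a, b, rfl⟩
    simp only [smul_eq_mul]
    rcases Nat.eq_zero_or_pos b with rfl | hb
    · exact Or.inl ⟨a, by ring⟩
    · exact Or.inr (le_trans (by nlinarith) le_rfl)
  · rintro (⟨m, rfl⟩ | h)
    · exact ⟨m, 0, by simp; ring⟩
    · rcases Nat.even_or_odd' n with ⟨m, rfl | rfl⟩
      · exact ⟨m, 0, by simp; ring⟩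
      · exact ⟨m - δ, 1, by simp; omega⟩

theorem length_ext_A_even [IsAlgClosed k] (δ : ℕ) (A : Subalgebra k (PowerSeries k))
    (hmono : ∀ f : PowerSeries k, f ∈ A ↔ ∀ n : ℕ, PowerSeries.coeff n f ≠ 0 →
      n ∈ AddSubmonoid.closure ({2, 2 * δ + 1} : Set ℕ))
    (i j : ℕ) (hi : i ≤ δ) (hj : j ≤ δ) :
    Module.length ↥A (Ext.{u}
      (ModuleCat.of ↥A ↥(Submodule.span ↥A ({1, (PowerSeries.X : PowerSeries k) ^ (2 * δ + 1 - 2 * i)} : Set (PowerSeries k))))
      (ModuleCat.of ↥A ↥(Submodule.span ↥A ({1, (PowerSeries.X : PowerSeries k) ^ (2 * δ + 1 - 2 * j)} : Set (PowerSeries k)))) 1)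
      = ((2 * min i j : ℕ) : ℕ∞) := by
  have hA : ∀ x, x ∈ A ↔ (oneBranch k).Mem δ x := fun f => by
    rw [hmono, oneBranch_mem]
    simp only [mem_closure_two_iff]
    constructor
    · intro h m hm
      by_contra hne
      rcases h _ hne with ⟨l, hl⟩ | hl <;> omega
    · intro h n hn
      rcases Nat.even_or_odd' n with ⟨m, rfl | rfl⟩
      · exact Or.inl ⟨m, by ring⟩
      · refine Or.inr ?_
        by_contra hlt
        exact hn (h m (by omega))
  have hgen : ∀ i ≤ δ, (X : PowerSeries k) ^ (2 * δ + 1 - 2 * i) = (oneBranch k).ι (X ^ (δ - i)) * (oneBranch k).w := by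
    intro i hi
    show _ = expand 2 two_ne_zero (X ^ (δ - i)) * X
    rw [map_pow, PowerSeries.expand_X, ← pow_mul, ← pow_succ, show 2 * δ + 1 - 2 * i = 2 * (δ - i) + 1 by omega]
  exact Quad.length_ext (oneBranch k) δ A hA i j hi hj
    (Submodule.subtype _) Subtype.val_injective
    (fun x => by rw [Submodule.range_subtype, hgen i hi, span_pair_eq _ δ A hA (Nat.sub_le _ _)])
    (Submodule.subtype _) Subtype.val_injective
    (fun x => by rw [Submodule.range_subtype, hgen j hj, span_pair_eq _ δ A hA (Nat.sub_le _ _)])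

/-- Two branches: `k[[t]] × k[[t]]` over the diagonal. -/
noncomputable def twoBranch (k : Type u) [Field k] : Quad k (PowerSeries k × PowerSeries k) where
  ι := (AlgHom.id k _).prod (AlgHom.id k _)
  w := (1, 0)
  α := 0
  β := 1
  sq := by ext <;> simp
  bij := by
    refine ⟨fun p q h => ?_, fun f => ⟨(f.2, f.1 - f.2), ?_⟩⟩
    · simp [Prod.ext_iff] at h
      exact Prod.ext h.2 (by linear_combination h.1 - h.2)
    · ext <;> simp

theorem twoBranch_mem (e : ℕ) (f : PowerSeries k × PowerSeries k) :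
    (twoBranch k).Mem e f ↔ (X : PowerSeries k) ^ e ∣ f.1 - f.2 := by
  constructor
  · rintro ⟨a, b, rfl⟩
    exact ⟨b, by simp [twoBranch]⟩
  · rintro ⟨b, hb⟩
    refine ⟨f.2, b, ?_⟩
    rw [← hb]
    ext <;> simp [twoBranch]

set_option synthInstance.maxHeartbeats 400000 in
set_option maxHeartbeats 2000000 in
theorem length_ext_A_odd [IsAlgClosed k] (δ : ℕ) (O : Subalgebra k (PowerSeries k × PowerSeries k))
    (hO : ∀ f : (PowerSeries k × PowerSeries k), f ∈ O ↔ (δ : ℕ∞) ≤ PowerSeries.order (f.1 - f.2))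
    (i j : ℕ) (hi : i ≤ δ) (hj : j ≤ δ) :
    Module.length ↥O (Ext.{u}
      (ModuleCat.of ↥O ↥(Submodule.span ↥O ({((PowerSeries.X : PowerSeries k) ^ i, (PowerSeries.X : PowerSeries k) ^ i), ((PowerSeries.X : PowerSeries k) ^ δ, 0)} : Set (PowerSeries k × PowerSeries k))))
      (ModuleCat.of ↥O ↥(Submodule.span ↥O ({((PowerSeries.X : PowerSeries k) ^ j, (PowerSeries.X : PowerSeries k) ^ j), ((PowerSeries.X : PowerSeries k) ^ δ, 0)} : Set (PowerSeries k × PowerSeries k)))) 1)
      = ((2 * min i j : ℕ) : ℕ∞) := by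
  set Q := twoBranch k
  have hA : ∀ x, x ∈ O ↔ Q.Mem δ x := fun f => by
    rw [hO, twoBranch_mem, PowerSeries.X_pow_dvd_iff]
    exact ⟨fun h m hm => coeff_of_lt_order m (lt_of_lt_of_le (by exact_mod_cast hm) h),
      fun h => nat_le_order _ _ h⟩
  let S : ℕ → Submodule O (PowerSeries k × PowerSeries k) := fun i =>
    Submodule.span O ({1, Q.ι (X ^ (δ - i)) * Q.w} : Set (PowerSeries k × PowerSeries k))
  let L : ℕ → (PowerSeries k × PowerSeries k) →ₗ[O] (PowerSeries k × PowerSeries k) := fun i =>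
    LinearMap.mulLeft O (Q.ι (X ^ i))
  have hL : ∀ i, Function.Injective (L i) := fun i x y h => Q.reg h
  have hmap : ∀ i ≤ δ, (S i).map (L i) =
      Submodule.span ↥O ({((PowerSeries.X : PowerSeries k) ^ i, (PowerSeries.X : PowerSeries k) ^ i), ((PowerSeries.X : PowerSeries k) ^ δ, 0)} : Set (PowerSeries k × PowerSeries k)) := by
    intro i hi
    rw [Submodule.map_span, Set.image_pair]
    congr 2
    · simp [L, Q, twoBranch]
    · congr 1
      simp [L, Q, twoBranch, ← pow_add, Nat.add_sub_cancel' hi]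
  let e : ∀ i ≤ δ, ↥(Submodule.span ↥O ({((PowerSeries.X : PowerSeries k) ^ i, (PowerSeries.X : PowerSeries k) ^ i), ((PowerSeries.X : PowerSeries k) ^ δ, 0)} : Set (PowerSeries k × PowerSeries k))) ≃ₗ[O] ↥(S i) :=
    fun i hi => (LinearEquiv.ofEq _ _ (hmap i hi).symm).trans ((S i).equivMapOfInjective (L i) (hL i)).symm
  exact Quad.length_ext Q δ O hA i j hi hj
    ((S i).subtype ∘ₗ (e i hi).toLinearMap) (Subtype.val_injective.comp (e i hi).injective)
    (fun x => by rw [LinearMap.range_comp_of_range_eq_top _ (LinearMap.range_eq_top.2 (e i hi).surjective), Submodule.range_subtype,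
      span_pair_eq _ δ O hA (Nat.sub_le _ _)])
    ((S j).subtype ∘ₗ (e j hj).toLinearMap) (Subtype.val_injective.comp (e j hj).injective)
    (fun x => by rw [LinearMap.range_comp_of_range_eq_top _ (LinearMap.range_eq_top.2 (e j hj).surjective), Submodule.range_subtype,
      span_pair_eq _ δ O hA (Nat.sub_le _ _)])

end Groth.Agent.QuadOrderExtLib
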